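import Cfsg.Agent.H756.PU.Engine
import Cfsg.Agent.H802.FusEss
import Cfsg.Agent.H973.FusNormEss
import Cfsg.Agent.H771.ModelUnique

/-!
# PU-G7, G8, G9 (S5258): constrained systems, TI automizers, comparison of systems
-/

set_option autoImplicit false

namespace Cfsg.Agent.H546.PU

open Cfsg Cfsg.FusionSystem Cfsg.Agent.H756.PU Cfsg.Agent.H802

universe u

section

variable {Ω : Type u} [Group Ω] {S : Subgroup Ω}

/-- A subgroup normal in `S` is fully normalized. -/
theorem isFullyNormalized_of_le [Finite S] (F : FusionSystem S) {Q : Subgroup Ω} (hQS : Q ≤ S)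
    (hN : S ≤ Subgroup.normalizer (Q : Set Ω)) : F.IsFullyNormalized Q := by
  refine ⟨hQS, fun R _ => ?_⟩
  have h1 : normalizerIn S Q = S := inf_eq_left.2 hN
  rw [h1]
  exact Subgroup.card_le_of_le inf_le_left

/-- A subgroup normal in `S` and containing its centralizer in `S` is centric. -/
theorem isCentric_of_le [Finite S] {p : ℕ} [Fact p.Prime] {F : FusionSystem S} {Q : Subgroup Ω}
    (hS : IsPGroup p S) (hF : F.IsSaturated p) (hQS : Q ≤ S)
    (hN : S ≤ Subgroup.normalizer (Q : Set Ω)) (hC : centralizerIn S Q ≤ Q) : F.IsCentric Q :=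
  isCentric_of_isFullyCentralized
    (isFullyCentralized_of_isFullyNormalized hS hF (isFullyNormalized_of_le F hQS hN)) hC

end

/-- (G7) -/
theorem stCon : StCon.{u} := by
  intro Ω _ S _ p _ F Q hS hF hQS hN hC hess hinv
  have hcen := isCentric_of_le hS hF hQS hN hC
  have hnor : F.IsNormal Q := by
    rw [Cfsg.Agent.H973.isNormal_iff_essential hS hF Q]
    rintro P (rfl | hP)
    · refine ⟨hQS, fun α hα => ?_⟩
      have hfin : Finite P := ‹_›
      refine Subgroup.eq_of_le_of_card_ge ?_ ?_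
      · rintro _ ⟨x, hx, rfl⟩
        exact Subgroup.mem_subgroupOf.2 (hinv.2 α hα x (Subgroup.mem_subgroupOf.1 hx))
      · exact (Subgroup.card_map_of_injective α.injective).ge
    · have hPQ := hess P hP
      subst hPQ
      refine ⟨le_rfl, fun α _ => ?_⟩
      rw [Subgroup.subgroupOf_self, ← MonoidHom.range_eq_map]
      exact MonoidHom.range_eq_top.2 α.surjective
  obtain ⟨L, hL, ι, ⟨hfin, hreal, hsyl, -⟩, -, -⟩ :=
    Cfsg.Agent.H771.exists_model hS hF hnor hcen
  exact ⟨L, hL, hfin, ι, hreal, hsyl⟩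

/-- (G8) -/
theorem stTIEss : StTIEss.{u} := by
  intro Ω _ S _ p _ F Q hS hF hQS hne hN hC hTI hnot
  have hcen := isCentric_of_le hS hF hQS hN hC
  have hfn := isFullyNormalized_of_le F hQS hN
  have hfQ : Finite Q := finite_of_le hQS
  -- the normalizer of `Aut_S(Q)`
  refine isEssential_of_not_le hS hF hfn hcen hne
    (Subgroup.normalizer ((autInducedBy S Q : Subgroup (MulAut Q)) : Set (MulAut Q))) ?_ ?_
  · rintro α hα ⟨R, hQR, hcard, ψ, hψ, hψα⟩
    have hRS : R ≤ S := hom_le hψ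
    obtain ⟨r, hr, hrQ⟩ : ∃ r ∈ R, r ∉ Q := by
      by_contra hcon
      push Not at hcon
      have : R = Q := le_antisymm hcon hQR
      rw [this] at hcard
      exact lt_irrefl _ hcard
    have hrS := hRS hr
    obtain ⟨β, hβ⟩ := exists_conjAut (hN hrS)
    have hβS : β ∈ autInducedBy S Q := conj_mem_autInducedBy hrS hβ
    have hβI : β ∉ Inn Q := fun h => hrQ (mem_of_conj_mem_inn hQS hC hrS hβ h)
    have hconj : α * β * α⁻¹ ∈ autInducedBy S Q := by
      refine conj_mem_autInducedBy (hom_apply_mem hψ ⟨r, hr⟩) (fun x => ?_)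
      -- x = α y
      obtain ⟨y, rfl⟩ := α.surjective x
      have h1 : (α * β * α⁻¹) (α y) = α (β y) := by
        rw [MulAut.mul_apply, MulAut.mul_apply, MulAut.inv_apply_self]
      rw [h1, ← hψα y, ← hψα (β y)]
      have h2 : (⟨((β y : Q) : Ω), hQR (β y).2⟩ : R) = ⟨r, hr⟩ * ⟨y, hQR y.2⟩ * ⟨r, hr⟩⁻¹ :=
        Subtype.ext (hβ y)
      rw [h2, map_mul, map_mul, map_inv]
    have hNA := hTI α hα β hβS hβI hconj
    -- `α` normalizes `Aut_S(Q)`
    have hfA : Finite (autInducedBy S Q) := inferInstance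
    rw [Subgroup.mem_normalizer_iff]
    have hle : (autInducedBy S Q).map (MulAut.conj α).toMonoidHom ≤ autInducedBy S Q := by
      rintro _ ⟨x, hx, rfl⟩
      exact hNA x hx
    have heq : (autInducedBy S Q).map (MulAut.conj α).toMonoidHom = autInducedBy S Q := by
      refine Subgroup.eq_of_le_of_card_ge hle ?_
      exact (Subgroup.card_map_of_injective (MulAut.conj α).injective).ge
    intro x
    refine ⟨fun hx => hNA x hx, fun hx => ?_⟩
    rw [← heq] at hx
    obtain ⟨y, hy, hyx⟩ := hx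
    have : y = x := (MulAut.conj α).injective hyx
    rwa [← this]
  · intro hle
    apply hnot
    intro γ hγ x hx
    exact (Subgroup.mem_normalizer_iff.1 (hle hγ) x).1 hx

/-- (G9) -/
theorem stSame : StSame.{u} := by
  have key : ∀ {Ω : Type u} [Group Ω] {S : Subgroup Ω} [Finite S] {p : ℕ} [Fact p.Prime]
      (F F' : FusionSystem S) (Q1 Q2 : Subgroup Ω), IsPGroup p S → F.IsSaturated p →
      (∀ E, F.IsEssential p E → E = Q1 ∨ E = Q2) →
      F.autGroup S = F'.autGroup S → F.autGroup Q1 = F'.autGroup Q1 →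
      F.autGroup Q2 = F'.autGroup Q2 → ∀ P, F.Hom P ⊆ F'.Hom P := by
    intro Ω _ S _ p _ F F' Q1 Q2 hS hF hess h0 h1 h2 P
    refine le_of_essential hS hF F' h0.le (fun Q hQ _ => ?_) P
    rcases hess Q hQ with rfl | rfl
    · exact h1.le
    · exact h2.le
  intro Ω _ S _ p _ F F' Q1 Q2 hS hF hF' _ _ hess hess' h0 h1 h2 P
  exact Set.Subset.antisymm (key F F' Q1 Q2 hS hF hess h0 h1 h2 P)
    (key F' F Q1 Q2 hS hF' hess' h0.symm h1.symm h2.symm P)

end Cfsg.Agent.H546.PU
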